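import Groth.Agent.GrpScheme.Component
import Groth.Agent.GrpScheme.SubgroupObj
import Groth.Agent.RedSub.Basic
import Groth.Agent.FBase.BC
import Groth.Agent.SchDom.Scheme

/-!
# The closed subgroup generated by a geometrically reduced scheme
-/

set_option autoImplicit false
set_option linter.style.haveILetI false
set_option backward.isDefEq.respectTransparency false
set_option backward.isDefEq.respectTransparency.types false
set_option synthInstance.maxHeartbeats 200000

universe u

open CategoryTheory CategoryTheory.Limits MonoidalCategory CartesianMonoidalCategory MonObj GrpObj AlgebraicGeometry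
open Groth.Agent.GrpScheme

noncomputable section

namespace Groth.Agent.GrpGen19

section Scheme

variable {Γ : Scheme.{u}} {J : Type u} {Z : J → Scheme.{u}} (f : ∀ j, Z j ⟶ Γ)

lemma sd_of_dense [IsReduced Γ] (h : Dense (⋃ j, Set.range (f j))) : SchDom.SD f := by
  intro V t ht
  rw [← AlgebraicGeometry.basicOpen_eq_bot_iff]
  by_contra hne
  obtain ⟨x, hx⟩ : ((Γ.basicOpen t : Γ.Opens) : Set Γ).Nonempty := Set.nonempty_iff_ne_empty.2 fun h' =>
    hne (TopologicalSpace.Opens.ext h')
  obtain ⟨y, hy, hy'⟩ := h.inter_open_nonempty _ (Γ.basicOpen t).2 ⟨x, hx⟩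
  obtain ⟨j, z, rfl⟩ := Set.mem_iUnion.1 hy'
  have h1 : z ∈ f j ⁻¹ᵁ Γ.basicOpen t := hy
  rw [Scheme.preimage_basicOpen, ht j, Scheme.basicOpen_zero] at h1
  exact h1

lemma isReduced_of_sd [∀ j, IsReduced (Z j)] (h : SchDom.SD f) : IsReduced Γ :=
  ⟨fun U => ⟨fun t ht => h U t fun j =>
    (ht.map ((f j).app U).hom).eq_zero⟩⟩

end Scheme

variable {k : Type u} [Field k]

lemma geometricallyReduced_tensor (A B : Over (Spec (CommRingCat.of k))) [GeometricallyReduced A.hom]
    [GeometricallyReduced B.hom] : GeometricallyReduced (A ⊗ B).hom := by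
  refine ⟨geometrically_iff_of_commRing_of_isClosedUnderIsomorphisms.mpr fun L _ _ => ?_⟩
  let g : Spec (CommRingCat.of L) ⟶ Spec (CommRingCat.of k) := FBase.BC.specMap k L
  haveI : IsReduced (pullback B.hom g) :=
    GeometricallyReduced.geometrically_isReduced _ _ _ (IsPullback.of_hasPullback B.hom g)
  haveI : IsReduced (pullback A.hom (pullback.fst B.hom g ≫ B.hom)) := FBase.BC.isReduced_pullback _ _
  have h : IsPullback (pullback.lift (pullback.fst A.hom (pullback.fst B.hom g ≫ B.hom))
      (pullback.snd A.hom (pullback.fst B.hom g ≫ B.hom) ≫ pullback.fst B.hom g)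
      (by rw [Category.assoc]; exact pullback.condition))
      (pullback.snd A.hom (pullback.fst B.hom g ≫ B.hom)) (pullback.snd A.hom B.hom) (pullback.fst B.hom g) := by
    refine IsPullback.of_right ?_ (pullback.lift_snd _ _ _) (IsPullback.of_hasPullback A.hom B.hom)
    rw [pullback.lift_fst]
    exact IsPullback.of_hasPullback A.hom (pullback.fst B.hom g ≫ B.hom)
  have h2 := h.paste_vert (IsPullback.of_hasPullback B.hom g)
  have e : pullback.snd A.hom B.hom ≫ B.hom = (A ⊗ B).hom := pullback.condition.symm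
  rw [e] at h2
  exact isReduced_of_isOpenImmersion h2.isoPullback.inv

lemma geometricallyReduced_unit : GeometricallyReduced (𝟙_ (Over (Spec (CommRingCat.of k)))).hom := by
  refine ⟨geometrically_iff_of_commRing_of_isClosedUnderIsomorphisms.mpr fun L _ _ => ?_⟩
  let g : Spec (CommRingCat.of L) ⟶ Spec (CommRingCat.of k) := FBase.BC.specMap k L
  haveI : IsIso (pullback.snd (𝟙 (Spec (CommRingCat.of k))) g) := inferInstance
  exact isReduced_of_isOpenImmersion (pullback.snd (𝟙 (Spec (CommRingCat.of k))) g)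

variable {G : Over (Spec (CommRingCat.of k))} [GrpObj G] {X : Over (Spec (CommRingCat.of k))} (f : X ⟶ G)

/-- Products of copies of `X`. -/
def word (X : Over (Spec (CommRingCat.of k))) : List Bool → Over (Spec (CommRingCat.of k))
  | [] => 𝟙_ _
  | _ :: l => X ⊗ word X l

/-- The signed letter. -/
def letter (b : Bool) : X ⟶ G := if b then f else f⁻¹

/-- The product map. -/
def wordMap : ∀ l : List Bool, word X l ⟶ G
  | [] => 1
  | b :: l => (fst X (word X l) ≫ letter f b) * (snd X (word X l) ≫ wordMap l)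

lemma geometricallyReduced_word [GeometricallyReduced X.hom] : ∀ l, GeometricallyReduced (word X l).hom
  | [] => geometricallyReduced_unit
  | b :: l =>
    haveI := geometricallyReduced_word l
    geometricallyReduced_tensor X (word X l)

lemma append_step {A W W' W'' : Over (Spec (CommRingCat.of k))} (a : A ⟶ G) (w : W ⟶ G) (w' : W' ⟶ G)
    (w'' : W'' ⟶ G) (σ : W ⊗ W' ⟶ W'') (hσ : σ ≫ w'' = (fst W W' ≫ w) * (snd W W' ≫ w')) :
    lift (fst (A ⊗ W) W' ≫ fst A W) (lift (fst (A ⊗ W) W' ≫ snd A W) (snd (A ⊗ W) W') ≫ σ) ≫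
        ((fst A W'' ≫ a) * (snd A W'' ≫ w'')) =
      (fst (A ⊗ W) W' ≫ ((fst A W ≫ a) * (snd A W ≫ w))) * (snd (A ⊗ W) W' ≫ w') := by
  rw [MonObj.comp_mul, lift_fst_assoc, lift_snd_assoc, Category.assoc, Category.assoc, hσ, MonObj.comp_mul,
    lift_fst_assoc, lift_snd_assoc, MonObj.comp_mul, Category.assoc, _root_.mul_assoc]

lemma inv_step {A W W' V V' : Over (Spec (CommRingCat.of k))} (a : A ⟶ G) (a' : A ⟶ G) (ha : a' = a⁻¹)
    (w : W ⟶ G) (w' : W' ⟶ G) (v' : V' ⟶ G) (σ : W ⟶ W') (hσ : σ ≫ w' = w⁻¹) (τ : W' ⊗ (A ⊗ V) ⟶ V')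
    (hτ : τ ≫ v' = (fst W' (A ⊗ V) ≫ w') * (snd W' (A ⊗ V) ≫ ((fst A V ≫ a') * (snd A V ≫ 1))))
    (z : A ⊗ W ⟶ V) :
    (lift (snd A W ≫ σ) (lift (fst A W) z) ≫ τ) ≫ v' = ((fst A W ≫ a) * (snd A W ≫ w))⁻¹ := by
  rw [Category.assoc, hτ, MonObj.comp_mul, lift_fst_assoc, lift_snd_assoc, Category.assoc, hσ,
    GrpObj.comp_inv, _root_.mul_inv_rev, MonObj.comp_mul, lift_fst_assoc, lift_snd_assoc, MonObj.comp_one,
    _root_.mul_one, ha, GrpObj.comp_inv]

lemma exists_append : ∀ l l' : List Bool, ∃ σ : word X l ⊗ word X l' ⟶ word X (l ++ l'),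
    σ ≫ wordMap f (l ++ l') = (fst _ _ ≫ wordMap f l) * (snd _ _ ≫ wordMap f l')
  | [], l' => ⟨snd _ _, by simp [wordMap]⟩
  | b :: l, l' => by
    obtain ⟨σ, hσ⟩ := exists_append l l'
    refine ⟨lift (fst (X ⊗ word X l) (word X l') ≫ fst X (word X l))
      (lift (fst (X ⊗ word X l) (word X l') ≫ snd X (word X l)) (snd (X ⊗ word X l) (word X l')) ≫ σ), ?_⟩
    exact append_step (letter f b) (wordMap f l) (wordMap f l') (wordMap f (l ++ l')) σ hσ

lemma exists_inv : ∀ l : List Bool, ∃ (l' : List Bool) (σ : word X l ⟶ word X l'),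
    σ ≫ wordMap f l' = (wordMap f l)⁻¹
  | [] => ⟨[], 𝟙 _, by simp [wordMap]⟩
  | b :: l => by
    obtain ⟨l', σ, hσ⟩ := exists_inv l
    obtain ⟨τ, hτ⟩ := exists_append f l' [!b]
    refine ⟨l' ++ [!b], lift (snd X (word X l) ≫ σ) (lift (fst X (word X l)) (toUnit _)) ≫ τ, ?_⟩
    exact inv_step (letter f b) (letter f (!b)) (by cases b <;> simp [letter]) (wordMap f l) (wordMap f l')
      (wordMap f (l' ++ [!b])) σ hσ τ hτ (toUnit _)

lemma exists_factor_word {Γ : Over (Spec (CommRingCat.of k))} [GrpObj Γ] (i : Γ ⟶ G) [IsMonHom i]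
    (f' : X ⟶ Γ) (hf : f' ≫ i = f) : ∀ l, ∃ v : word X l ⟶ Γ, v ≫ i = wordMap f l
  | [] => ⟨1, by rw [MonObj.one_comp]; rfl⟩
  | b :: l => by
    obtain ⟨v, hv⟩ := exists_factor_word i f' hf l
    refine ⟨(fst X (word X l) ≫ letter f' b) * (snd X (word X l) ≫ v), ?_⟩
    show _ = (fst X (word X l) ≫ letter f b) * (snd X (word X l) ≫ wordMap f l)
    rw [MonObj.mul_comp, Category.assoc, Category.assoc, hv]
    congr 2
    cases b <;> simp [letter, GrpObj.inv_comp, hf]

/-- The closure of all products. -/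
def genSet : TopologicalSpace.Closeds G.left :=
  ⟨closure (⋃ l : ULift.{u} (List Bool), Set.range (wordMap f l.down).left), isClosed_closure⟩

lemma dense_range_of_lift {C : TopologicalSpace.Closeds G.left} (hC : C = genSet f)
    {Γ : Over (Spec (CommRingCat.of k))} (i : Γ ⟶ G) (hi : Topology.IsEmbedding i.left)
    (hr : Set.range i.left = C) (v : ∀ l : ULift.{u} (List Bool), word X l.down ⟶ Γ)
    (hv : ∀ l, v l ≫ i = wordMap f l.down) : Dense (⋃ l, Set.range (v l).left) := by
  intro y
  rw [hi.closure_eq_preimage_closure_image, Set.image_iUnion, Set.mem_preimage]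
  have e : ∀ l, i.left '' Set.range (v l).left = Set.range (wordMap f l.down).left := fun l => by
    rw [← Set.range_comp, ← hv l]; rfl
  simp only [e]
  have : i.left y ∈ (C : Set G.left) := hr ▸ ⟨y, rfl⟩
  rw [hC] at this
  exact this

lemma dense_tensor {A : Over (Spec (CommRingCat.of k))} {J : Type u} {Z : J → Over (Spec (CommRingCat.of k))}
    (v : ∀ j, Z j ⟶ A) (h : Dense (⋃ j, Set.range (v j).left)) :
    Dense (⋃ p : J × J, Set.range (v p.1 ⊗ₘ v p.2).left) := by
  rw [dense_iff_inter_open]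
  intro O hO hne
  haveI : UniversallyOpen (fst A A).left := inferInstanceAs (UniversallyOpen (pullback.fst A.hom A.hom))
  obtain ⟨a, ⟨q, hq, rfl⟩, ha⟩ := h.inter_open_nonempty _ ((fst A A).left.isOpenMap O hO) (hne.image _)
  obtain ⟨i, hi⟩ := Set.mem_iUnion.1 ha
  obtain ⟨w, hw⟩ := hi
  obtain ⟨q', hq'1, -⟩ := Scheme.exists_preimage_of_isPullback
    ((Basic.isPullback_whiskerRight (R := A) (v i)).map (Over.forget _)) q w hw.symm
  haveI : UniversallyOpen (snd (Z i) A).left := inferInstanceAs (UniversallyOpen (pullback.snd (Z i).hom A.hom))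
  obtain ⟨b, ⟨r, hr, rfl⟩, hb⟩ := h.inter_open_nonempty _
    ((snd (Z i) A).left.isOpenMap _ (hO.preimage (v i ▷ A).left.continuous))
    (Set.Nonempty.image _ ⟨q', show (v i ▷ A).left q' ∈ O from hq'1.symm ▸ hq⟩)
  obtain ⟨j, hj⟩ := Set.mem_iUnion.1 hb
  obtain ⟨w', hw'⟩ := hj
  obtain ⟨r', hr'1, -⟩ := Scheme.exists_preimage_of_isPullback
    ((Basic.isPullback_whiskerLeft (R := Z i) (v j)).map (Over.forget _)) r w' hw'.symm
  refine ⟨(v i ⊗ₘ v j).left r', ?_, Set.mem_iUnion.2 ⟨(i, j), r', rfl⟩⟩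
  rw [show v i ⊗ₘ v j = (Z i ◁ v j) ≫ (v i ▷ A) by
    refine CartesianMonoidalCategory.hom_ext _ _ ?_ ?_ <;> simp, Over.comp_left, Scheme.Hom.comp_apply]
  exact hr'1.symm ▸ hr

/-- The closed subgroup generated by a geometrically reduced scheme. -/
theorem exists_generated [GeometricallyReduced X.hom] :
    ∃ (Γ : Over (Spec (CommRingCat.of k))) (_ : GrpObj Γ) (i : Γ ⟶ G), IsMonHom i ∧ IsClosedImmersion i.left ∧
      (∃ f' : X ⟶ Γ, f' ≫ i = f) ∧ GeometricallyReduced Γ.hom ∧
      Set.range i.left = genSet f ∧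
      ∀ (Γ' : Over (Spec (CommRingCat.of k))) (_ : GrpObj Γ') (i' : Γ' ⟶ G), IsMonHom i' → IsClosedImmersion i'.left →
        (∃ f'' : X ⟶ Γ', f'' ≫ i' = f) → ∃ j : Γ ⟶ Γ', j ≫ i' = i := by
  let C := genSet f
  let Γ := Component.redSub G C
  let i : Γ ⟶ G := Over.homMk (Scheme.IdealSheafData.vanishingIdeal C).subschemeι rfl
  haveI hi : IsClosedImmersion i.left :=
    inferInstanceAs (IsClosedImmersion (Scheme.IdealSheafData.vanishingIdeal C).subschemeι)
  haveI : Mono i := Over.mono_of_mono_left i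
  have hr : Set.range i.left = C := RedSub.range_vanishingIdeal_subschemeι C
  haveI : IsReduced Γ.left := inferInstanceAs (IsReduced (Scheme.IdealSheafData.vanishingIdeal C).subscheme)
  have lift' : ∀ {T : Over (Spec (CommRingCat.of k))} [IsReduced T.left] (g : T ⟶ G),
      Set.range g.left ⊆ (C : Set G.left) → ∃ g' : T ⟶ Γ, g' ≫ i = g := fun {T} _ g hg => by
    obtain ⟨l, hl⟩ := RedSub.exists_lift_closed i.left g.left (hr ▸ hg)
    exact ⟨Over.homMk l (by rw [← Over.w i, reassoc_of% hl, Over.w]), Over.OverMorphism.ext hl⟩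
  have hword : ∀ l : ULift.{u} (List Bool), IsReduced (word X l.down).left := fun l => by
    haveI := geometricallyReduced_word (X := X) l.down
    haveI : IsReduced (Spec (CommRingCat.of k)) := inferInstance
    haveI : IsReduced (pullback (word X l.down).hom (𝟙 (Spec (CommRingCat.of k)))) :=
      FBase.BC.isReduced_pullback _ _
    exact isReduced_of_isOpenImmersion (inv (pullback.fst (word X l.down).hom (𝟙 (Spec (CommRingCat.of k)))))
  choose v hv using fun l : ULift.{u} (List Bool) =>
    haveI := hword l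
    lift' (wordMap f l.down) (fun y hy => subset_closure (Set.mem_iUnion.2 ⟨l, hy⟩))
  have hdense := dense_range_of_lift f (C := C) rfl i i.left.isClosedEmbedding.isEmbedding hr v hv
  have hsd := sd_of_dense (fun l => (v l).left) hdense
  haveI hgr : GeometricallyReduced Γ.hom := by
    refine ⟨geometrically_iff_of_commRing_of_isClosedUnderIsomorphisms.mpr fun L _ _ => ?_⟩
    let g : Spec (CommRingCat.of L) ⟶ Spec (CommRingCat.of k) := FBase.BC.specMap k L
    haveI : ∀ l, IsReduced (pullback ((v l).left ≫ Γ.hom) g) := fun l => by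
      haveI := geometricallyReduced_word (X := X) l.down
      rw [Over.w (v l)]
      exact GeometricallyReduced.geometrically_isReduced _ _ _ (IsPullback.of_hasPullback _ g)
    exact isReduced_of_sd _ (SchDom.univ_of_field (fun l => (v l).left) Γ.hom g hsd)
  haveI : IsReduced (Γ ⊗ Γ).left := FBase.BC.isReduced_pullback Γ.hom Γ.hom
  haveI : IsReduced (𝟙_ (Over (Spec (CommRingCat.of k)))).left := inferInstanceAs (IsReduced (Spec (CommRingCat.of k)))
  -- closure under the operations
  have hmul : Set.range ((i ⊗ₘ i) ≫ μ[G]).left ⊆ (C : Set G.left) := by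
    rw [← Set.image_univ, ← (dense_tensor v hdense).closure_eq]
    refine (image_closure_subset_closure_image ((i ⊗ₘ i) ≫ μ[G]).left.continuous).trans
      (closure_minimal ?_ C.2)
    rintro _ ⟨_, hy, rfl⟩
    obtain ⟨⟨a, b⟩, z, rfl⟩ := Set.mem_iUnion.1 hy
    obtain ⟨σ, hσ⟩ := exists_append f a.down b.down
    refine subset_closure (Set.mem_iUnion.2 ⟨⟨a.down ++ b.down⟩, σ.left z, ?_⟩)
    rw [← Points.comp_apply, ← Points.comp_apply, hσ, ← Category.assoc, tensorHom_comp_tensorHom, hv, hv]
    congr 3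
  have hone : Set.range (η[G]).left ⊆ (C : Set G.left) := by
    rintro _ ⟨z, rfl⟩
    refine subset_closure (Set.mem_iUnion.2 ⟨⟨[]⟩, z, ?_⟩)
    have : wordMap f [] = η[G] := by
      show (1 : 𝟙_ _ ⟶ G) = _
      rw [Hom.one_def, toUnit_unique (toUnit (𝟙_ _)) (𝟙 _), Category.id_comp]
    exact congr(($this).left z)
  have hinv : Set.range (i ≫ ι[G]).left ⊆ (C : Set G.left) := by
    rw [← Set.image_univ, ← hdense.closure_eq]
    refine (image_closure_subset_closure_image (i ≫ ι[G]).left.continuous).trans (closure_minimal ?_ C.2)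
    rintro _ ⟨_, hy, rfl⟩
    obtain ⟨a, z, rfl⟩ := Set.mem_iUnion.1 hy
    obtain ⟨l', σ, hσ⟩ := exists_inv f a.down
    refine subset_closure (Set.mem_iUnion.2 ⟨⟨l'⟩, σ.left z, ?_⟩)
    rw [← Points.comp_apply, ← Points.comp_apply, hσ, ← Category.assoc, hv, Hom.inv_def]
  obtain ⟨hΓ, hiM⟩ := SubgroupObj.exists_grpObj i (lift' _ hmul) (lift' _ hone) (lift' _ hinv)
  refine ⟨Γ, hΓ, i, hiM, hi, ?_, hgr, hr, fun Γ' hΓ' i' hi'M hi' hf'' => ?_⟩
  · refine ⟨lift (𝟙 X) (toUnit X) ≫ v ⟨[true]⟩, ?_⟩
    rw [Category.assoc, hv]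
    show lift _ _ ≫ ((fst X (word X []) ≫ letter f true) * (snd X (word X []) ≫ wordMap f [])) = f
    simp [letter, wordMap]
  · letI := hΓ'; haveI := hi'M; haveI := hi'
    obtain ⟨f'', hf⟩ := hf''
    have hsub : Set.range i.left ⊆ Set.range i'.left := by
      rw [hr]
      refine closure_minimal ?_ i'.left.isClosedEmbedding.isClosed_range
      rintro y hy
      obtain ⟨l, z, rfl⟩ := Set.mem_iUnion.1 hy
      obtain ⟨w, hw⟩ := exists_factor_word f i' f'' hf l.down
      exact ⟨w.left z, by rw [← Points.comp_apply, hw]⟩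
    obtain ⟨j, hj⟩ := RedSub.exists_lift_closed i'.left i.left hsub
    exact ⟨Over.homMk j (by rw [← Over.w i', reassoc_of% hj, Over.w]), Over.OverMorphism.ext hj⟩

omit [GrpObj G] in
/-- A connected scheme with a rational point is geometrically connected. -/
theorem geometricallyConnected_of_point [ConnectedSpace X.left]
    (x : 𝟙_ (Over (Spec (CommRingCat.of k))) ⟶ X) : GeometricallyConnected X.hom := by
  let L := AlgebraicClosure k
  let g : Spec (CommRingCat.of L) ⟶ Spec (CommRingCat.of k) := FBase.BC.specMap k L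
  rw [FBase.BC.geometricallyConnected_iff (K := L)]
  haveI : Surjective g := FBase.BC.surjective_specMap
  haveI : IsIntegralHom g := by
    rw [IsIntegralHom.SpecMap_iff]
    exact algebraMap_isIntegral_iff.mpr inferInstance
  haveI : ConnectedSpace ↥(pullback X.hom g) := by
    let π := pullback.fst X.hom g
    obtain ⟨s₀⟩ := (inferInstance : Nonempty (Spec (CommRingCat.of L)))
    let σ : Spec (CommRingCat.of L) ⟶ pullback X.hom g := pullback.lift (g ≫ x.left) (𝟙 _) (by
      rw [Category.assoc, Over.w x]; simp)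
    have hfib : ∀ z, π z = x.left (g s₀) → z = σ s₀ := fun z hz => by
      have hsq : IsPullback σ g π x.left := by
        refine IsPullback.of_right (h₁₂ := pullback.snd X.hom g) (v₁₃ := g) (h₂₂ := X.hom) ?_
          (pullback.lift_fst _ _ _) (IsPullback.of_hasPullback X.hom g).flip
        have e1 : σ ≫ pullback.snd X.hom g = 𝟙 _ := pullback.lift_snd _ _ _
        have e2 : x.left ≫ X.hom = 𝟙 (Spec (CommRingCat.of k)) := Over.w x
        rw [e1, e2]
        exact IsPullback.of_horiz_isIso ⟨by rw [Category.comp_id, Category.id_comp]⟩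
      obtain ⟨s, hs, -⟩ := Scheme.exists_preimage_of_isPullback hsq z (g s₀) hz
      rw [← hs, Subsingleton.elim (α := PrimeSpectrum L) s s₀]
    have key : ∀ s : Set ↥(pullback X.hom g), IsClopen s → s.Nonempty → σ s₀ ∈ s := fun s hs hne => by
      have hu : π '' s = Set.univ :=
        (isClopen_iff.1 ⟨π.isClosedMap _ hs.1, π.isOpenMap _ hs.2⟩).resolve_left
          (Set.Nonempty.ne_empty (hne.image _))
      obtain ⟨z, hz, hzx⟩ : x.left (g s₀) ∈ π '' s := hu ▸ trivial
      exact hfib z hzx ▸ hz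
    refine connectedSpace_iff_clopen.2 ⟨⟨σ s₀⟩, fun s hs => ?_⟩
    rcases s.eq_empty_or_nonempty with h | h
    · exact Or.inl h
    · refine Or.inr (Set.compl_empty_iff.1 (Set.not_nonempty_iff_eq_empty.1 fun hc => ?_))
      exact key _ hs.compl hc (key s hs h)
  exact FBase.BC.geometricallyConnected_of_isSepClosed _

/-- The closed subgroup generated by a connected scheme through the identity is connected. -/
theorem connected_genSet [ConnectedSpace X.left] (x : 𝟙_ (Over (Spec (CommRingCat.of k))) ⟶ X)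
    (hx : x ≫ f = η[G]) : _root_.IsConnected (genSet f : Set G.left) := by
  haveI := geometricallyConnected_of_point x
  obtain ⟨s₀⟩ := (inferInstance : Nonempty (Spec (CommRingCat.of k)))
  have key : ∀ l : List Bool, ConnectedSpace (word X l).left ∧
      (η[G]).left s₀ ∈ Set.range (wordMap f l).left := by
    have hp : ∀ l : List Bool, ∃ p : 𝟙_ (Over (Spec (CommRingCat.of k))) ⟶ word X l, p ≫ wordMap f l = 1 := by
      intro l
      induction l with
      | nil => exact ⟨𝟙 _, by simp [wordMap]⟩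
      | cons b l ih =>
        obtain ⟨p, hp⟩ := ih
        refine ⟨lift x p, ?_⟩
        show lift x p ≫ ((fst X (word X l) ≫ letter f b) * (snd X (word X l) ≫ wordMap f l)) = 1
        have hx1 : x ≫ f = 1 := by rw [hx, Hom.one_def, toUnit_unique (toUnit (𝟙_ _)) (𝟙 _), Category.id_comp]
        rw [MonObj.comp_mul, lift_fst_assoc, lift_snd_assoc, hp, _root_.mul_one]
        cases b <;> simp [letter, GrpObj.comp_inv, hx1]
    intro l
    refine ⟨?_, ?_⟩
    · induction l with
      | nil => exact inferInstanceAs (ConnectedSpace ↥(Spec (CommRingCat.of k)))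
      | cons b l ih =>
        haveI := ih
        haveI : GeometricallyConnected (snd X (word X l)).left :=
          inferInstanceAs (GeometricallyConnected (pullback.snd X.hom (word X l).hom))
        haveI : UniversallyOpen (snd X (word X l)).left :=
          inferInstanceAs (UniversallyOpen (pullback.snd X.hom (word X l).hom))
        have := (snd X (word X l)).left.isConnected_preimage (snd X (word X l)).left.isOpenMap
          isConnected_univ isClosed_univ
        rw [Set.preimage_univ] at this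
        exact connectedSpace_iff_univ.2 this
    · obtain ⟨p, hp⟩ := hp l
      refine ⟨p.left s₀, ?_⟩
      rw [← Points.comp_apply, hp, Hom.one_def, toUnit_unique (toUnit (𝟙_ _)) (𝟙 _), Category.id_comp]
  refine IsConnected.closure ⟨⟨_, Set.mem_iUnion.2 ⟨⟨[]⟩, (key []).2⟩⟩, ?_⟩
  refine isPreconnected_iUnion ⟨(η[G]).left s₀, Set.mem_iInter.2 fun l => (key l.down).2⟩ fun l => ?_
  haveI := (key l.down).1
  exact (isConnected_range (wordMap f l.down).left.continuous).isPreconnected

end Groth.Agent.GrpGen19
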